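import Cfsg.Agent.Lib.Char.PqEigen
import Cfsg.Agent.Lib.Char.Clifford
import Cfsg.Agent.Lib.Char.Constituent
import Cfsg.Agent.Lib.Char.Kernel
import Cfsg.Agent.Lib.Grp.Frattini
import Cfsg.Prelude.Def_Solvable

/-!
# Linear groups of degree less than `2p` with non-abelian Sylow `p`-subgroups

A central commutator element `z` of a Sylow `p`-subgroup has two eigenvalues, which are at
distance less than one.  By the sixty degree argument all conjugates of `z` preserve both
eigenspaces, so they generate an abelian normal subgroup `A`; the degree shows that the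
constituents on `A` have multiplicity one, so the centraliser of `A` is abelian and the quotient
by it permutes fewer than `2p` characters.
-/

set_option autoImplicit false
set_option linter.style.haveILetI false
set_option linter.unusedSectionVars false

open Cfsg

namespace Cfsg.Agent.Block.DegreeLtTwoP

open Cfsg.Agent Cfsg.Agent.Char

universe u

variable {G : Type u} [Group G] [Fintype G] {p : ℕ} [hp : Fact p.Prime]

/-- The number of the `c i` equal to a given root of unity. -/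
theorem card_filter_eq {ι : Type*} [Fintype ι] [DecidableEq ℂ] (c : ι → ℂ) (hc : ∀ i, c i ^ p = 1)
    {w : ℂ} (hw : w ^ p = 1) :
    (p : ℂ) * ((Finset.univ.filter fun i => c i = w).card : ℂ) =
      ∑ k ∈ Finset.range p, w⁻¹ ^ k * ∑ i, c i ^ k := by
  have hS : ∀ x : ℂ, x ^ p = 1 → (∑ k ∈ Finset.range p, (w⁻¹ * x) ^ k) =
      if x = w then (p : ℂ) else 0 := by
    intro x hx
    have hw0 : w ≠ 0 := fun h => by simp [h, hp.out.ne_zero] at hw
    split_ifs with h
    · subst h; simp [inv_mul_cancel₀ hw0]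
    · have h1 : w⁻¹ * x ≠ 1 := fun h1 => h ((inv_mul_eq_one₀ hw0).1 h1).symm
      rw [geom_sum_eq h1, mul_pow, inv_pow, hw, hx]
      simp
  calc (p : ℂ) * ((Finset.univ.filter fun i => c i = w).card : ℂ)
      = ∑ i, if c i = w then (p : ℂ) else 0 := by
        rw [← Finset.sum_filter, Finset.sum_const, nsmul_eq_mul, mul_comm]
    _ = ∑ i, ∑ k ∈ Finset.range p, (w⁻¹ * c i) ^ k :=
        Finset.sum_congr rfl fun i _ => (hS _ (hc i)).symm
    _ = _ := by
        rw [Finset.sum_comm]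
        simp only [mul_pow, Finset.mul_sum]

/-- A commutator element `z` of order `p` in the centre of a non-abelian `p`-subgroup: its
character is `p ζ + (n - p)` on every power. -/
theorem exists_special {χ : IrrCharacter G}
    (hfaith : ∀ g : G, (χ : G → ℂ) g = (χ : G → ℂ) 1 → g = 1) {n : ℕ}
    (hn : charDegree (χ : G → ℂ) = n) (hn2 : n < 2 * p)
    {P : Subgroup G} (hP : IsPGroup p P) {x y : G} (hx : x ∈ P) (hy : y ∈ P) (hxy : x * y ≠ y * x) :
    p ≤ n ∧ ∃ z : G, orderOf z = p ∧ ∀ k : ℕ, (χ : G → ℂ) (z ^ k) =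
      (p : ℂ) * Complex.exp (2 * Real.pi * Complex.I / p) ^ k + ((n - p : ℕ) : ℂ) := by
  classical
  haveI : Fintype P := Fintype.ofFinite P
  have hne : commutator P ≠ ⊥ := by
    intro h
    have h1 := Subgroup.commutator_mem_commutator (Subgroup.mem_top (⟨x, hx⟩ : P))
      (Subgroup.mem_top (⟨y, hy⟩ : P))
    rw [← commutator_def, h, Subgroup.mem_bot, commutatorElement_eq_one_iff_mul_comm] at h1
    exact hxy (congrArg Subtype.val h1)
  haveI := hP.isNilpotent
  have hne2 := Grp.inf_center_ne_bot (commutator P) hne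
  obtain ⟨z₀, hz₀⟩ : ∃ z₀ : (commutator P ⊓ Subgroup.center P : Subgroup P), orderOf z₀ = p := by
    refine exists_prime_orderOf_dvd_card' p ?_
    rcases (hP.to_subgroup (commutator P ⊓ Subgroup.center P)).card_eq_or_dvd with h | h
    · exact absurd (Subgroup.card_eq_one.1 h) hne2
    · exact h
  have hzc : (z₀ : P) ∈ Subgroup.center P := (Subgroup.mem_inf.1 z₀.2).2
  have hzd : (z₀ : P) ∈ commutator P := (Subgroup.mem_inf.1 z₀.2).1
  set z : P := (z₀ : P) with hz
  have hzo : orderOf z = p := by rw [hz, Subgroup.orderOf_coe, hz₀]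
  have hzp : z ^ p = 1 := by rw [← hzo, pow_orderOf_eq_one]
  have hres := IsChar.res (IsIrr.isCharacter χ.2) P
  obtain ⟨a, ha, hdec⟩ := IsChar.exists_decomp_inner hres
  have hdeg : ∀ φ : IrrCharacter P, ∃ c : ℂ, c ^ p = 1 ∧
      (∀ k : ℕ, (φ : P → ℂ) (z ^ k) = c ^ k * (φ : P → ℂ) 1) := by
    intro φ
    obtain ⟨c, -, hc⟩ := IsIrr.scalar_of_center φ.2 hzc
    have hk : ∀ k : ℕ, (φ : P → ℂ) (z ^ k) = c ^ k * (φ : P → ℂ) 1 := fun k => by
      induction k with
      | zero => simp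
      | succ k ih => rw [pow_succ', hc, ih, pow_succ']; ring
    refine ⟨c, ?_, hk⟩
    have h := hk p
    rw [hzp] at h
    exact mul_right_cancel₀ (irr_one_ne_zero φ) (h.symm.trans (one_mul _).symm)
  choose c hc hck using hdeg
  -- linear constituents are trivial on `z`
  have hlin : ∀ φ : IrrCharacter P, charDegree (φ : P → ℂ) = 1 → c φ = 1 := by
    intro φ h1
    obtain ⟨l, hl⟩ := linearHom_of_isCharacter (IsIrr.isCharacter φ.2)
      (by rw [charDeg_spec' φ, h1, Nat.cast_one])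
    have hlz : l z = 1 := (MonoidHom.mem_ker).1 (Abelianization.commutator_subset_ker l hzd)
    have h := hck φ 1
    rw [pow_one, pow_one, hl] at h
    simpa [hlz] using h.symm
  have hn' : ∑ φ : IrrCharacter P, a φ * charDegree (φ : P → ℂ) = n := by
    have h := congrFun hdec 1
    simp only [Finset.sum_apply, Pi.smul_apply, smul_eq_mul, charDeg_spec', Subgroup.coe_one,
      hn] at h
    exact_mod_cast h.symm
  have hval : ∀ k : ℕ, (χ : G → ℂ) ((z : G) ^ k) =
      ∑ φ : IrrCharacter P, ((a φ * charDegree (φ : P → ℂ) : ℕ) : ℂ) * c φ ^ k := by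
    intro k
    rw [← SubgroupClass.coe_pow, show (χ : G → ℂ) ((z ^ k : P) : G) = _ from congrFun hdec (z ^ k)]
    simp only [Finset.sum_apply, Pi.smul_apply, smul_eq_mul]
    refine Finset.sum_congr rfl fun φ _ => ?_
    rw [hck, charDeg_spec']
    push_cast
    ring
  -- the exceptional constituent
  have hz1 : (z : G) ≠ 1 := fun h => by
    have h1 : z = 1 := Subtype.ext h
    rw [h1, orderOf_one] at hzo
    exact hp.out.ne_one hzo.symm
  obtain ⟨φ₀, hφa, hφc⟩ : ∃ φ : IrrCharacter P, 0 < a φ ∧ c φ ≠ 1 := by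
    by_contra hno
    push Not at hno
    refine hz1 (hfaith _ ?_)
    have h1 := hval 1
    rw [pow_one] at h1
    rw [h1, charDeg_spec' χ, hn, ← hn', Nat.cast_sum]
    refine Finset.sum_congr rfl fun φ _ => ?_
    rcases Nat.eq_zero_or_pos (a φ) with h0 | h0
    · simp [h0]
    · simp [hno φ h0]
  have hbig : ∀ φ : IrrCharacter P, c φ ≠ 1 → p ≤ charDegree (φ : P → ℂ) := by
    intro φ hφ
    have h1 : charDegree (φ : P → ℂ) ≠ 1 := fun h => hφ (hlin φ h)
    obtain ⟨k, hk⟩ := (IsPGroup.iff_card (p := p)).1 hP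
    obtain ⟨i, -, hi⟩ := (Nat.dvd_prime_pow hp.out).1 (hk ▸ charDeg_dvd φ)
    rw [hi]
    rcases Nat.eq_zero_or_pos i with h0 | h0
    · exact absurd (by rw [hi, h0, pow_zero]) h1
    · exact Nat.le_self_pow h0.ne' p
  have hd0 : charDegree (φ₀ : P → ℂ) = p ∧ a φ₀ = 1 := by
    have h1 : a φ₀ * charDegree (φ₀ : P → ℂ) ≤ n := hn' ▸
      Finset.single_le_sum (f := fun φ : IrrCharacter P => a φ * charDegree (φ : P → ℂ))
        (fun _ _ => Nat.zero_le _) (Finset.mem_univ φ₀)
    have h2 := hbig φ₀ hφc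
    obtain ⟨k, hk⟩ := (IsPGroup.iff_card (p := p)).1 hP
    obtain ⟨i, -, hi⟩ := (Nat.dvd_prime_pow hp.out).1 (hk ▸ charDeg_dvd φ₀)
    have hlt : charDegree (φ₀ : P → ℂ) < 2 * p :=
      lt_of_le_of_lt ((Nat.le_mul_of_pos_left _ hφa).trans h1) hn2
    have hi1 : i = 1 := by
      by_contra hne
      rcases Nat.lt_or_ge i 1 with h | h
      · rw [hi, show i = 0 by omega, pow_zero] at h2
        exact absurd h2 (not_le.2 hp.out.one_lt)
      · have : p * p ≤ p ^ i := by
          rw [← pow_two]; exact Nat.pow_le_pow_right hp.out.pos (by omega)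
        rw [hi] at hlt
        nlinarith [hp.out.two_le]
    rw [hi1, pow_one] at hi
    refine ⟨hi, ?_⟩
    rw [hi] at h1
    have h4 : a φ₀ * p < 2 * p := lt_of_le_of_lt h1 hn2
    have := Nat.lt_of_mul_lt_mul_right h4
    omega
  have hothers : ∀ φ : IrrCharacter P, φ ≠ φ₀ → 0 < a φ → c φ = 1 := by
    intro φ hne hφ
    by_contra h
    have h1 : ∑ ψ ∈ ({φ, φ₀} : Finset (IrrCharacter P)), a ψ * charDegree (ψ : P → ℂ) ≤ n :=
      hn' ▸ Finset.sum_le_sum_of_subset (Finset.subset_univ _)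
    rw [Finset.sum_pair hne, hd0.1, hd0.2, one_mul] at h1
    have h2 := Nat.le_mul_of_pos_left (charDegree (φ : P → ℂ)) hφ
    have h3 := hbig φ h
    omega
  have hpn : p ≤ n := by
    have h1 := Finset.single_le_sum (f := fun φ : IrrCharacter P => a φ * charDegree (φ : P → ℂ))
      (fun _ _ => Nat.zero_le _) (Finset.mem_univ φ₀)
    simp only [hn', hd0.1, hd0.2, one_mul] at h1
    exact h1
  have hsplit : ∀ k : ℕ, (χ : G → ℂ) ((z : G) ^ k) =
      (p : ℂ) * c φ₀ ^ k + ((n - p : ℕ) : ℂ) := by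
    intro k
    rw [hval, ← Finset.add_sum_erase _ _ (Finset.mem_univ φ₀), hd0.1, hd0.2, one_mul]
    refine congrArg _ ?_
    have h2 := Finset.add_sum_erase Finset.univ
      (fun φ : IrrCharacter P => a φ * charDegree (φ : P → ℂ)) (Finset.mem_univ φ₀)
    rw [hn', hd0.1, hd0.2, one_mul] at h2
    have h3 : ∑ φ ∈ Finset.univ.erase φ₀, a φ * charDegree (φ : P → ℂ) = n - p := by omega
    rw [← h3, Nat.cast_sum]
    refine Finset.sum_congr rfl fun φ hφ => ?_
    rcases Nat.eq_zero_or_pos (a φ) with h0 | h0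
    · simp [h0]
    · rw [hothers φ (Finset.ne_of_mem_erase hφ) h0, one_pow, mul_one]
  -- normalise the eigenvalue
  set ζ := Complex.exp (2 * Real.pi * Complex.I / p) with hζdef
  have hζ : IsPrimitiveRoot ζ p := Complex.isPrimitiveRoot_exp p hp.out.ne_zero
  have hc0 : IsPrimitiveRoot (c φ₀) p := IsPrimitiveRoot.iff_def _ _ |>.2 ⟨hc φ₀, fun l hl => by
    rcases (Nat.dvd_prime hp.out).1 (orderOf_dvd_of_pow_eq_one (hc φ₀)) with h | h
    · exact absurd (orderOf_eq_one_iff.1 h) hφc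
    · exact h ▸ orderOf_dvd_of_pow_eq_one hl⟩
  haveI : NeZero p := ⟨hp.out.ne_zero⟩
  obtain ⟨j, hj, hje⟩ := hc0.eq_pow_of_pow_eq_one hζ.pow_eq_one
  have hj0 : j ≠ 0 := fun h => by
    rw [h, pow_zero] at hje
    exact hζ.ne_one hp.out.one_lt hje.symm
  refine ⟨hpn, (z : G) ^ j, ?_, fun k => ?_⟩
  · rw [Nat.Coprime.orderOf_pow (by
      rw [Subgroup.orderOf_coe, hzo]
      exact hp.out.coprime_iff_not_dvd.2 (Nat.not_dvd_of_pos_of_lt (Nat.pos_of_ne_zero hj0) hj)),
      Subgroup.orderOf_coe, hzo]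
  · rw [← pow_mul, hsplit, pow_mul, hje]

/-- The conjugates of the special element commute. -/
theorem conj_commute {χ : IrrCharacter G}
    (hfaith : ∀ g : G, (χ : G → ℂ) g = (χ : G → ℂ) 1 → g = 1) (h7 : 7 ≤ p) {z : G}
    (hzo : orderOf z = p) {n : ℕ}
    (hz : ∀ k : ℕ, (χ : G → ℂ) (z ^ k) =
      (p : ℂ) * Complex.exp (2 * Real.pi * Complex.I / p) ^ k + ((n - p : ℕ) : ℂ)) (t : G) :
    Commute z (t * z * t⁻¹) := by
  classical
  obtain ⟨m, ρ, hρ, hρχ⟩ := χ.2
  obtain ⟨b, c, hb, hc, hval⟩ := exists_rep_eigenbasis ρ z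
  rw [hzo] at hc
  simp only [hρχ] at hval
  set ζ := Complex.exp (2 * Real.pi * Complex.I / p) with hζdef
  have hζ : IsPrimitiveRoot ζ p := Complex.isPrimitiveRoot_exp p hp.out.ne_zero
  have hp0 : (p : ℂ) ≠ 0 := Nat.cast_ne_zero.2 hp.out.ne_zero
  -- only two eigenvalues
  have htwo : ∀ i, c i = 1 ∨ c i = ζ := by
    intro i
    by_contra h
    push Not at h
    have h1 := card_filter_eq (p := p) c hc (hc i)
    simp only [← hval, hz, mul_add, Finset.sum_add_distrib] at h1
    have hS : ∀ y : ℂ, y ^ p = 1 → y ≠ c i → ∑ k ∈ Finset.range p, (c i)⁻¹ ^ k * y ^ k = 0 := by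
      intro y hy hne
      have hc0 : c i ≠ 0 := fun h0 => by simpa [h0, hp.out.ne_zero] using hc i
      simp only [← mul_pow]
      rw [geom_sum_eq (fun e => hne ((inv_mul_eq_one₀ hc0).1 e).symm), mul_pow, inv_pow, hc i, hy]
      simp
    have e1 : ∑ k ∈ Finset.range p, (c i)⁻¹ ^ k * ((p : ℂ) * ζ ^ k) = 0 := by
      rw [show (∑ k ∈ Finset.range p, (c i)⁻¹ ^ k * ((p : ℂ) * ζ ^ k)) =
        (p : ℂ) * ∑ k ∈ Finset.range p, (c i)⁻¹ ^ k * ζ ^ k by
          rw [Finset.mul_sum]; exact Finset.sum_congr rfl fun k _ => by ring,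
        hS ζ hζ.pow_eq_one h.2.symm, mul_zero]
    have e2 : ∑ k ∈ Finset.range p, (c i)⁻¹ ^ k * ((n - p : ℕ) : ℂ) = 0 := by
      rw [← Finset.sum_mul, show (∑ k ∈ Finset.range p, (c i)⁻¹ ^ k) =
        ∑ k ∈ Finset.range p, (c i)⁻¹ ^ k * (1 : ℂ) ^ k by simp,
        hS 1 (one_pow p) h.1.symm, zero_mul]
    rw [e1, e2, add_zero, mul_eq_zero, Nat.cast_eq_zero, Nat.cast_eq_zero,
      Finset.card_eq_zero] at h1
    have hi : i ∈ Finset.univ.filter fun l => c l = c i :=
      Finset.mem_filter.2 ⟨Finset.mem_univ _, rfl⟩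
    rw [h1.resolve_left hp.out.ne_zero] at hi
    exact Finset.notMem_empty i hi
  set r := ‖ζ - 1‖ with hr
  have hr0 : 0 ≤ r := norm_nonneg _
  have hr1 : r < 1 := by
    have := PqEigen.norm_pow_sub_one_lt (p := p) (r := 1) (by norm_num; omega)
    simpa using this
  have hspec : ∀ (lam : ℂ) (v : Fin m → ℂ), v ≠ 0 → ρ z v = lam • v → lam = 1 ∨ lam = ζ := by
    intro lam v hv hev
    obtain ⟨i, hi⟩ : ∃ i, b.repr v i ≠ 0 := by
      by_contra hno2
      push Not at hno2
      exact hv (b.ext_elem (fun i => by simpa using hno2 i))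
    have h1 : b.repr (ρ z v) i = c i * b.repr v i := by
      conv_lhs => rw [← b.sum_repr v]
      simp only [map_sum, map_smul, hb, Finsupp.coe_finsetSum, Finset.sum_apply,
        Finsupp.smul_apply, Module.Basis.repr_self, smul_eq_mul]
      rw [Finset.sum_eq_single i (fun l _ hl => by simp [Finsupp.single_eq_of_ne (Ne.symm hl)])
        (fun h => absurd (Finset.mem_univ i) h)]
      simp [mul_comm]
    rw [hev, map_smul, Finsupp.smul_apply, smul_eq_mul] at h1
    rw [mul_right_cancel₀ hi h1]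
    exact htwo i
  have hN : ∀ μ : ℂ, μ = 1 ∨ μ = ζ → Arc.Near ρ r μ z := by
    intro μ hμ
    refine Sixty.near_of_spectrum_complex hr0 fun lam v hv hev => ?_
    rcases hμ with rfl | rfl <;> rcases hspec lam v hv hev with rfl | rfl
    · simpa using hr0
    · exact le_rfl
    · rw [norm_sub_rev]
    · simpa using hr0
  have hnorm : ∀ μ : ℂ, μ = 1 ∨ μ = ζ → ‖μ‖ = 1 := by
    rintro μ (rfl | rfl)
    · exact norm_one
    · exact Complex.norm_eq_one_of_pow_eq_one hζ.pow_eq_one hp.out.ne_zero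
  -- a conjugate maps each eigenvector to an eigenvector with the same eigenvalue
  have hkeep : ∀ μ : ℂ, μ = 1 ∨ μ = ζ → ∀ v, ρ z v = μ • v →
      ρ z (ρ (t * z * t⁻¹) v) = μ • ρ (t * z * t⁻¹) v := by
    intro μ hμ v hv
    have hv' : v ∈ LinearMap.ker (ρ z - μ • (1 : Module.End ℂ (Fin m → ℂ))) := by
      simp [hv]
    have h := Sixty.conj_mem_stab (hnorm μ hμ) hr0 hr1 (hN μ hμ) t v hv'
    simpa [sub_eq_zero] using h
  have hρeq : ρ (z * (t * z * t⁻¹)) = ρ (t * z * t⁻¹ * z) := by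
    refine b.ext fun i => ?_
    rw [Sixty.apply_mul, Sixty.apply_mul (t * z * t⁻¹) z, hb i, map_smul, hkeep (c i) (htwo i) _ (hb i)]
  refine mul_left_cancel (a := (z * (t * z * t⁻¹))⁻¹) ?_
  rw [inv_mul_cancel]
  refine (hfaith _ ?_).symm
  rw [← hρχ]
  show LinearMap.trace ℂ _ (ρ _) = LinearMap.trace ℂ _ (ρ 1)
  rw [map_mul, ← hρeq, ← map_mul, inv_mul_cancel]

/-- The special element generates an abelian normal `p`-subgroup `A` with few constituents. -/
theorem index_bound {χ : IrrCharacter G}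
    (hfaith : ∀ g : G, (χ : G → ℂ) g = (χ : G → ℂ) 1 → g = 1) (h7 : 7 ≤ p) {n : ℕ}
    (hn : charDegree (χ : G → ℂ) = n) (hn2 : n < 2 * p) (hnp : n ≠ p)
    {P : Subgroup G} (hP : IsPGroup p P) {x y : G} (hx : x ∈ P) (hy : y ∈ P) (hxy : x * y ≠ y * x) :
    ¬ p ^ 2 ∣ (pCore p G).index := by
  classical
  obtain ⟨hpn, z, hzo, hz⟩ := exists_special hfaith hn hn2 hP hx hy hxy
  have hcom := conj_commute hfaith h7 hzo hz
  set A := Subgroup.normalClosure ({z} : Set G) with hA
  have hconj : ∀ w ∈ Group.conjugatesOfSet ({z} : Set G), ∃ t, t * z * t⁻¹ = w := by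
    intro w hw
    obtain ⟨a, ha, haw⟩ := Group.mem_conjugatesOfSet_iff.1 hw
    rw [Set.mem_singleton_iff] at ha
    subst ha
    exact isConj_iff.1 haw
  have hgen : ∀ u ∈ Group.conjugatesOfSet ({z} : Set G), ∀ v ∈ Group.conjugatesOfSet ({z} : Set G),
      u * v = v * u := by
    intro u hu v hv
    obtain ⟨s, rfl⟩ := hconj u hu
    obtain ⟨t, rfl⟩ := hconj v hv
    have h := (hcom (s⁻¹ * t)).eq
    calc s * z * s⁻¹ * (t * z * t⁻¹) = s * (z * (s⁻¹ * t * z * (s⁻¹ * t)⁻¹)) * s⁻¹ := by group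
      _ = s * (s⁻¹ * t * z * (s⁻¹ * t)⁻¹ * z) * s⁻¹ := by rw [h]
      _ = _ := by group
  have hAcomm : IsMulCommutative A := Subgroup.isMulCommutative_closure hgen
  have hAc : ∀ a b : A, a * b = b * a := fun a b => hAcomm.is_comm.comm a b
  have hzA : z ∈ A := Subgroup.subset_normalClosure rfl
  haveI : A.Normal := Subgroup.normalClosure_normal
  haveI : Fintype A := Fintype.ofFinite A
  set C := Subgroup.centralizer (A : Set G) with hC
  haveI : Fintype C := Fintype.ofFinite C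
  have hAC : A ≤ C := fun a ha b hb => congrArg Subtype.val (hAc ⟨b, hb⟩ ⟨a, ha⟩)
  haveI hCn : C.Normal := by rw [hC]; infer_instance
  -- Clifford
  obtain ⟨θ, hθ, hθc⟩ : ∃ θ : A → ℂ, IsIrrCharacter A θ ∧
      classInner (fun a : A => (χ : G → ℂ) a) θ ≠ 0 := by
    obtain ⟨φ, hφ⟩ := IsChar.exists_constituent' (IsChar.res (IsIrr.isCharacter χ.2) A)
      (show (χ : G → ℂ) ((1 : A) : G) ≠ 0 from irr_one_ne_zero χ)
    exact ⟨φ, φ.2, hφ⟩
  obtain ⟨e, he⟩ := IsChar.classInner_nat (IsChar.res (IsIrr.isCharacter χ.2) A)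
    (IsIrr.isCharacter hθ)
  have hθ1 : θ 1 = 1 := IsIrr.one_of_comm hAc hθ
  set O := conjOrbit A θ with hO
  have hcl : ∀ a : A, (χ : G → ℂ) a = (e : ℂ) * ∑ ψ ∈ O, ψ a := by
    intro a
    have h := congrFun (clifford A χ.2 hθ hθc) a
    rw [he] at h
    simpa using h
  have hO1 : ∀ ψ ∈ O, ψ 1 = 1 := by
    intro ψ hψ
    obtain ⟨g, rfl⟩ := (mem_conjOrbit A).1 hψ
    rw [conjN_apply]
    exact (congrArg θ (Subtype.ext (by simp))).trans hθ1
  have hne : n = e * O.card := by
    have h := hcl 1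
    rw [Finset.sum_congr rfl hO1, Finset.sum_const, nsmul_eq_mul, mul_one, Subgroup.coe_one,
      charDeg_spec' χ, hn] at h
    exact_mod_cast h
  -- the values on `z`
  have hOhom : ∀ ψ : O, ∃ l : A →* ℂˣ, (ψ : A → ℂ) = fun a => (l a : ℂ) := by
    rintro ⟨ψ, hψ⟩
    obtain ⟨g, rfl⟩ := (mem_conjOrbit A).1 hψ
    exact linearHom_of_isCharacter (IsIrr.isCharacter (IsIrr.conjN A hθ g)) (hO1 _ hψ)
  choose l hl using hOhom
  set zA : A := ⟨z, hzA⟩ with hzAdef
  have hzAp : zA ^ p = 1 := Subtype.ext (by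
    rw [SubgroupClass.coe_pow, hzAdef, ← hzo, pow_orderOf_eq_one, Subgroup.coe_one])
  set ζ := Complex.exp (2 * Real.pi * Complex.I / p) with hζdef
  have hζ : IsPrimitiveRoot ζ p := Complex.isPrimitiveRoot_exp p hp.out.ne_zero
  have he1 : e = 1 := by
    let cO : O → ℂ := fun ψ => (l ψ zA : ℂ)
    have hcO : ∀ ψ, cO ψ ^ p = 1 := fun ψ => by
      show (l ψ zA : ℂ) ^ p = 1
      rw [← Units.val_pow_eq_pow_val, ← map_pow, hzAp, map_one, Units.val_one]
    have hk : ∀ k : ℕ, (e : ℂ) * ∑ ψ : O, cO ψ ^ k = (p : ℂ) * ζ ^ k + ((n - p : ℕ) : ℂ) := by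
      intro k
      rw [← hz k, show z ^ k = ((zA ^ k : A) : G) by rw [SubgroupClass.coe_pow], hcl,
        ← Finset.sum_coe_sort O]
      refine congrArg _ (Finset.sum_congr rfl fun ψ _ => ?_)
      show (l ψ zA : ℂ) ^ k = (ψ : A → ℂ) (zA ^ k)
      rw [congrFun (hl ψ) (zA ^ k), map_pow, Units.val_pow_eq_pow_val]
    have h1 := congrArg (fun w : ℂ => (e : ℂ) * w) (card_filter_eq (p := p) cO hcO hζ.pow_eq_one)
    rw [Finset.mul_sum] at h1
    have h2 : ∑ k ∈ Finset.range p, (e : ℂ) * (ζ⁻¹ ^ k * ∑ ψ : O, cO ψ ^ k) = (p : ℂ) * p := by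
      have hz0 : ζ ≠ 0 := hζ.ne_zero hp.out.ne_zero
      rw [Finset.sum_congr rfl fun k _ => (mul_left_comm (e : ℂ) (ζ⁻¹ ^ k) _).trans
        (congrArg (ζ⁻¹ ^ k * ·) (hk k))]
      simp only [mul_add, Finset.sum_add_distrib, ← Finset.sum_mul]
      rw [geom_sum_eq (fun h => hζ.ne_one hp.out.one_lt (inv_eq_one.1 h)), inv_pow,
        hζ.pow_eq_one, inv_one, sub_self, zero_div, zero_mul, add_zero]
      rw [Finset.sum_congr rfl fun k _ => show ζ⁻¹ ^ k * ((p : ℂ) * ζ ^ k) = p by
        rw [mul_left_comm, ← mul_pow, inv_mul_cancel₀ hz0, one_pow, mul_one]]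
      simp
    rw [h2, mul_left_comm] at h1
    have h3 := mul_left_cancel₀ (Nat.cast_ne_zero.2 hp.out.ne_zero) h1
    have h4 : e * (Finset.univ.filter fun ψ : O => cO ψ = ζ).card = p := by exact_mod_cast h3
    rcases (Nat.dvd_prime hp.out).1 (Dvd.intro _ h4) with h | h
    · exact h
    · exfalso
      have hOpos : 0 < O.card := Finset.card_pos.2 ⟨θ, (mem_conjOrbit A).2 ⟨1, conjN_one A θ⟩⟩
      have : O.card < 2 := by
        rw [hne, h, mul_comm 2] at hn2
        exact Nat.lt_of_mul_lt_mul_left hn2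
      rw [show O.card = 1 by omega, h, mul_one] at hne
      exact hnp hne
  have hOn : O.card = n := by rw [hne, he1, one_mul]
  -- the centraliser is abelian
  have hCab : ∀ a b : C, a * b = b * a := by
    intro a b
    obtain ⟨s, hs, hdec⟩ := IsChar.exists_decomp_inner (IsChar.res (IsIrr.isCharacter χ.2) C)
    let ι : A →* C := Subgroup.inclusion hAC
    have hlinφ : ∀ φ : IrrCharacter C, 0 < s φ → charDegree (φ : C → ℂ) = 1 := by
      intro φ hφ
      have hι : ∀ w : A, ι w ∈ Subgroup.center C := fun w => Subgroup.mem_center_iff.2 fun g =>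
        Subtype.ext ((g.2 (w : G) w.2).symm)
      -- the scalar on `A`
      obtain ⟨lφ, hlφ⟩ : ∃ lφ : IrrCharacter A, ∀ w : A,
          (φ : C → ℂ) (ι w) = (φ : C → ℂ) 1 * (lφ : A → ℂ) w := by
        obtain ⟨ψ, hψ⟩ := IsChar.exists_constituent' (IsChar.comp ι (IsIrr.isCharacter φ.2))
          (show (φ : C → ℂ) (ι 1) ≠ 0 by rw [map_one]; exact irr_one_ne_zero φ)
        choose k hk1 hk using fun w : A => IsIrr.scalar_of_center φ.2 (hι w)
        have hkey : ∀ w : A, (φ : C → ℂ) (ι w) = (φ : C → ℂ) 1 * k w := fun w => by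
          rw [← mul_one (ι w), hk, mul_comm]
        have hmul : ∀ v w : A, k (v * w) = k v * k w := fun v w => by
          refine mul_left_cancel₀ (irr_one_ne_zero φ) ?_
          rw [← hkey, map_mul, hk, hkey]
          ring
        have hne0 : ∀ w, k w ≠ 0 := fun w h0 => by simpa [h0] using hk1 w
        let kk : A →* ℂˣ :=
          { toFun := fun w => Units.mk0 (k w) (hne0 w)
            map_one' := Units.ext (mul_left_cancel₀ (irr_one_ne_zero φ)
              (show (φ : C → ℂ) 1 * k 1 = (φ : C → ℂ) 1 * 1 by rw [← hkey, map_one, mul_one]))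
            map_mul' := fun v w => Units.ext (hmul v w) }
        exact ⟨⟨_, isIrr_linear kk⟩, hkey⟩
      -- its multiplicity
      have hin : classInner (fun w : A => (χ : G → ℂ) w) (lφ : A → ℂ) =
          ∑ ψ : IrrCharacter C, (s ψ : ℂ) * classInner (fun w : A => (ψ : C → ℂ) (ι w)) (lφ : A → ℂ) := by
        rw [show (fun w : A => (χ : G → ℂ) w) =
          ∑ ψ : IrrCharacter C, (s ψ : ℂ) • fun w : A => (ψ : C → ℂ) (ι w) from funext fun w => by
            have := congrFun hdec (ι w)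
            simpa [ι] using this, classInner_sum_left]
        simp only [classInner_smul_left]
      have hnat : ∀ ψ : IrrCharacter C, ∃ j : ℕ,
          classInner (fun w : A => (ψ : C → ℂ) (ι w)) (lφ : A → ℂ) = j :=
        fun ψ => IsChar.classInner_nat (IsChar.comp ι (IsIrr.isCharacter ψ.2)) (IsIrr.isCharacter lφ.2)
      choose j hj using hnat
      have hjφ : j φ = charDegree (φ : C → ℂ) := by
        have h := hj φ
        rw [show (fun w : A => (φ : C → ℂ) (ι w)) = (φ : C → ℂ) 1 • (lφ : A → ℂ) from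
          funext fun w => hlφ w, classInner_smul_left, classInner_self_irr lφ.2, mul_one,
          charDeg_spec' φ] at h
        exact_mod_cast h.symm
      obtain ⟨f, hf⟩ := IsChar.classInner_nat (IsChar.res (IsIrr.isCharacter χ.2) A)
        (IsIrr.isCharacter lφ.2)
      have hfsum : f = ∑ ψ : IrrCharacter C, s ψ * j ψ := by
        have : (f : ℂ) = ((∑ ψ : IrrCharacter C, s ψ * j ψ : ℕ) : ℂ) := by
          rw [← hf, hin, Nat.cast_sum]
          simp [hj]
        exact_mod_cast this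
      have hle : s φ * charDegree (φ : C → ℂ) ≤ f := by
        rw [hfsum, ← hjφ]
        exact Finset.single_le_sum (f := fun ψ => s ψ * j ψ) (fun _ _ => Nat.zero_le _)
          (Finset.mem_univ φ)
      have hpos : 0 < s φ * charDegree (φ : C → ℂ) := Nat.mul_pos hφ (charDeg_pos φ)
      obtain ⟨g, hg⟩ := exists_conj_of_constituents A χ.2 hθ lφ.2 hθc
        (by rw [hf]; exact Nat.cast_ne_zero.2 (by omega))
      have hf1 : f = 1 := by
        have h := classInner_res_conjN A (IsIrr.classFun χ.2) θ g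
        rw [hg, hf, he, he1] at h
        exact_mod_cast h
      nlinarith [charDeg_pos φ]
    have hone : a * b * a⁻¹ * b⁻¹ = 1 := by
      refine Subtype.ext (hfaith _ ?_)
      have h1 := congrFun hdec (a * b * a⁻¹ * b⁻¹)
      have h2 := congrFun hdec 1
      simp only [Subgroup.coe_one] at h2
      rw [h1, h2]
      simp only [Finset.sum_apply, Pi.smul_apply, smul_eq_mul]
      refine Finset.sum_congr rfl fun φ _ => ?_
      rcases Nat.eq_zero_or_pos (s φ) with h0 | h0
      · simp [h0]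
      · obtain ⟨L, hL⟩ := linearHom_of_isCharacter (IsIrr.isCharacter φ.2)
          (by rw [charDeg_spec' φ, hlinφ φ h0, Nat.cast_one])
        simp [hL, mul_comm (L a) (L b)]
    calc a * b = (a * b * a⁻¹ * b⁻¹) * (b * a) := by group
      _ = b * a := by rw [hone, one_mul]
  -- the quotient permutes the constituents
  have hmem : ∀ (g : G) (ψ : A → ℂ), ψ ∈ O → Char.conjN A g⁻¹ ψ ∈ O := by
    intro g ψ hψ
    obtain ⟨h, rfl⟩ := (mem_conjOrbit A).1 hψ
    exact (mem_conjOrbit A).2 ⟨h * g⁻¹, conjN_mul A h g⁻¹ θ⟩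
  let F : G →* Equiv.Perm O :=
    { toFun := fun g =>
        { toFun := fun ψ => ⟨Char.conjN A g⁻¹ ψ.1, hmem g _ ψ.2⟩
          invFun := fun ψ => ⟨Char.conjN A g ψ.1, by simpa using hmem g⁻¹ _ ψ.2⟩
          left_inv := fun ψ => Subtype.ext (conjN_cancel_inv A g ψ.1)
          right_inv := fun ψ => Subtype.ext (conjN_inv_cancel A g ψ.1) }
      map_one' := Equiv.ext fun ψ => Subtype.ext (by
        show Char.conjN A (1 : G)⁻¹ ψ.1 = ψ.1
        rw [inv_one, conjN_one])
      map_mul' := fun g h => Equiv.ext fun ψ => Subtype.ext (by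
        show Char.conjN A (g * h)⁻¹ ψ.1 = Char.conjN A g⁻¹ (Char.conjN A h⁻¹ ψ.1)
        rw [mul_inv_rev, conjN_mul]) }
  have hker : F.ker ≤ C := by
    intro g hg w hw
    have hfix : ∀ ψ ∈ O, Char.conjN A g⁻¹ ψ = ψ := fun ψ hψ =>
      congrArg Subtype.val (Equiv.congr_fun ((MonoidHom.mem_ker).1 hg) ⟨ψ, hψ⟩)
    set v : A := ⟨g⁻¹ * w * g⁻¹⁻¹, (inferInstance : A.Normal).conj_mem w hw g⁻¹⟩ * (⟨w, hw⟩ : A)⁻¹
      with hv
    have hv1 : (v : G) = 1 := by
      refine hfaith _ ?_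
      rw [← Subgroup.coe_one A, hcl, hcl]
      refine congrArg _ (Finset.sum_congr rfl fun ψ hψ => ?_)
      rw [hO1 ψ hψ]
      obtain ⟨L, hL⟩ : ∃ L : A →* ℂˣ, ψ = fun a => (L a : ℂ) := ⟨_, hl ⟨ψ, hψ⟩⟩
      have hh := congrFun (hfix ψ hψ) ⟨w, hw⟩
      rw [conjN_apply, hL] at hh
      rw [hL, hv]
      simp only at hh
      simp only [map_mul, map_inv, Units.val_mul]
      rw [hh]
      simp
    have hh : g⁻¹ * w * g * w⁻¹ = 1 := by simpa [hv] using hv1
    calc w * g = g * (g⁻¹ * w * g * w⁻¹) * w := by group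
      _ = g * w := by rw [hh, mul_one]
  -- conclusion
  have h1 : F.ker.index ∣ Nat.factorial n := by
    rw [Subgroup.index_ker, ← hOn, ← Fintype.card_coe O, ← Fintype.card_perm,
      ← Nat.card_eq_fintype_card]
    exact Subgroup.card_subgroup_dvd_card _
  have hCi : C.index ∣ Nat.factorial n := (Subgroup.index_dvd_of_le hker).trans h1
  intro hdvd
  haveI hCc : IsMulCommutative C := ⟨⟨hCab⟩⟩
  obtain ⟨S⟩ : Nonempty (Sylow p C) := inferInstance
  haveI : (S : Subgroup C).Normal := ⟨fun a ha g => by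
    rw [hCab g a, mul_assoc, mul_inv_cancel, mul_one]; exact ha⟩
  haveI := Sylow.characteristic_of_normal S inferInstance
  haveI hSG : ((S : Subgroup C).map C.subtype).Normal := inferInstance
  have hle : (S : Subgroup C).map C.subtype ≤ pCore p G :=
    le_sSup ⟨hSG, S.isPGroup'.map C.subtype⟩
  have h2 : (pCore p G).index ∣ C.index * (S : Subgroup C).index := by
    have h3 := Subgroup.index_dvd_of_le hle
    rw [Subgroup.index_map, (MonoidHom.ker_eq_bot_iff _).2 (Subgroup.subtype_injective C), sup_bot_eq,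
      Subgroup.range_subtype] at h3
    rwa [mul_comm] at h3
  have hS : ¬ p ∣ (S : Subgroup C).index := S.not_dvd_index
  have h4 : p ^ 2 ∣ C.index :=
    ((hp.out.coprime_iff_not_dvd.2 hS).pow_left 2).dvd_of_dvd_mul_right (hdvd.trans h2)
  have h5 : p ^ 2 ∣ Nat.factorial n := h4.trans hCi
  -- `n < 2 p`
  have h6 : (Nat.factorial n).factorization p < 2 := by
    rw [Nat.factorization_factorial hp.out (b := 2) (by
      have : n < p ^ 2 := by nlinarith [hp.out.two_le]
      exact Nat.log_lt_of_lt_pow' (by norm_num) this)]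
    rw [show Finset.Ico 1 2 = {1} from rfl, Finset.sum_singleton, pow_one]
    exact Nat.div_lt_of_lt_mul (by rw [mul_comm]; exact hn2)
  have h7' := (hp.out.pow_dvd_iff_le_factorization (Nat.factorial_ne_zero n)).1 h5
  omega

end Cfsg.Agent.Block.DegreeLtTwoP
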